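import Cfsg.Agent.OddRank.SzTits
import Cfsg.Agent.S1156

/-!
# Suzuki and Ree groups have cyclic Sylow `p`-subgroups, `p ≥ 5` (helper248, for S4822)
-/

set_option autoImplicit false

open Cfsg Subgroup

namespace Cfsg.Agent.H248.KBW

universe u

theorem isCyclic_sylow_congr {p : ℕ} [Fact p.Prime] {G H : Type*} [Group G] [Finite G] [Group H] (e : G ≃* H)
    (h : ∀ P : Sylow p H, IsCyclic (P : Subgroup H)) (P : Sylow p G) : IsCyclic (P : Subgroup G) := by
  have hH : Finite H := Finite.of_equiv _ e.toEquiv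
  have hm : ((P : Subgroup G).map e.toMonoidHom) = (P : Subgroup G).map (e : G →* H) := rfl
  obtain ⟨Q, hQ⟩ : ∃ Q : Sylow p H, (P : Subgroup G).map e.toMonoidHom ≤ Q :=
    IsPGroup.exists_le_sylow (P.isPGroup'.map _)
  have hc : IsCyclic ↥((P : Subgroup G).map e.toMonoidHom) := by
    have := h Q
    exact isCyclic_of_injective (Subgroup.inclusion hQ) (Subgroup.inclusion_injective hQ)
  exact ((P : Subgroup G).equivMapOfInjective e.toMonoidHom e.injective).isCyclic.2 hc

variable {p : ℕ} [Fact p.Prime] (S : Type u) [Group S] [Finite S]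

/-- **W6.** The Suzuki groups. -/
theorem cyc_sz (h11 : 11 ≤ p) (h : Lie.IsoSuzuki S) (hP : ∀ P : Sylow p S, ¬ IsCyclic (P : Subgroup S)) : False := by
  obtain ⟨P⟩ : Nonempty (Sylow p S) := inferInstance
  exact hP P (OddRank.SzTits.isCyclic_of_isPGroup h (by omega) P P.isPGroup')

/-- **W6.** The small Ree groups. -/
theorem cyc_ree (h11 : 11 ≤ p) (h : Lie.IsoRee S) (hP : ∀ P : Sylow p S, ¬ IsCyclic (P : Subgroup S)) : False := by
  obtain ⟨P⟩ : Nonempty (Sylow p S) := inferInstance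
  obtain ⟨K, _, _, m, hm, hK, ⟨e⟩⟩ := h
  exact hP P (isCyclic_sylow_congr e (Cfsg.Agent.S1156.result hm hK (by omega)) P)

end Cfsg.Agent.H248.KBW
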