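import Cfsg.Agent.NotCT.Orders
import Cfsg.Prelude.Def_Classification2

/-!
# Sporadic groups and the Tits group with noncyclic Sylow `p`-subgroups, `p ≥ 11` (helper248, for S4822)

Only `J₄` (`p = 11`) and the Monster (`p = 11, 13`).
-/

set_option autoImplicit false

open Cfsg Subgroup

namespace Cfsg.Agent.H248.KBW

universe u

/-- a Sylow `p`-subgroup is cyclic if `p ^ 2` does not divide the order -/
theorem isCyclic_of_sq {S : Type u} [Group S] [Finite S] {p : ℕ} [Fact p.Prime] (h : ¬ p ^ 2 ∣ Nat.card S) (P : Sylow p S) :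
    IsCyclic (P : Subgroup S) := by
  have hpp : p.Prime := Fact.out
  obtain ⟨n, hn⟩ := (IsPGroup.iff_card (p := p)).1 P.isPGroup'
  have hn1 : n ≤ 1 := by
    by_contra hc
    push Not at hc
    exact h ((pow_dvd_pow p hc).trans (hn ▸ Subgroup.card_subgroup_dvd_card (P : Subgroup S)))
  have hd : Nat.card (P : Subgroup S) ∣ p := by
    rw [hn]
    exact (pow_dvd_pow p hn1).trans (by rw [pow_one])
  exact isCyclic_of_card_dvd_prime hd

/-- `p ^ 2 ∤ N` from a factorization -/
theorem not_sq_dvd {N K e : ℕ} (l : List ℕ) (hN : N ∣ K ^ e * l.prod) (hl : ∀ x ∈ l, x.Prime)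
    (hl2 : ∀ x ∈ l, ¬ x ^ 2 ∣ l.prod) {p : ℕ} (hp : p.Prime) (hK : ¬ p ∣ K) : ¬ p ^ 2 ∣ N := by
  intro h
  have h1 : p ^ 2 ∣ K ^ e * l.prod := h.trans hN
  have hc : Nat.Coprime (p ^ 2) (K ^ e) := Nat.Coprime.pow _ _ ((Nat.Prime.coprime_iff_not_dvd hp).2 hK)
  have h2 : p ^ 2 ∣ l.prod := hc.dvd_of_dvd_mul_left h1
  obtain ⟨x, hx, hpx⟩ := (Prime.dvd_prod_iff hp.prime).1 ((dvd_pow_self p two_ne_zero).trans h2)
  have hpe : p = x := (Nat.prime_dvd_prime_iff_eq hp (hl x hx)).1 hpx
  subst hpe
  exact hl2 p hx h2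

theorem not_dvd_210 {p : ℕ} (hp : p.Prime) (h11 : 11 ≤ p) : ¬ p ∣ 210 := by
  intro h
  have h1 : p ∣ 30 * 7 := h
  rcases hp.dvd_mul.1 h1 with h2 | h2
  · have h3 := Nat.le_of_dvd (by norm_num) h2
    interval_cases p <;> first | omega | exact absurd hp (by norm_num)
  · have h3 := Nat.le_of_dvd (by norm_num) h2
    omega

theorem not_dvd_2310 {p : ℕ} (hp : p.Prime) (h11 : 11 ≤ p) (hne : p ≠ 11) : ¬ p ∣ 2310 := by
  intro h
  have h1 : p ∣ 210 * 11 := h
  rcases hp.dvd_mul.1 h1 with h2 | h2
  · exact not_dvd_210 hp h11 h2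
  · exact hne ((Nat.prime_dvd_prime_iff_eq hp (by norm_num)).1 h2)

theorem not_dvd_30030 {p : ℕ} (hp : p.Prime) (h11 : 11 ≤ p) (hne : p ≠ 11) (hne' : p ≠ 13) : ¬ p ∣ 30030 := by
  intro h
  have h1 : p ∣ 2310 * 13 := h
  rcases hp.dvd_mul.1 h1 with h2 | h2
  · exact not_dvd_2310 hp h11 hne h2
  · exact hne' ((Nat.prime_dvd_prime_iff_eq hp (by norm_num)).1 h2)

variable {p : ℕ} [Fact p.Prime] (S : Type u) [Group S] [Finite S]

theorem false_of_card {N : ℕ} (hN : Nat.card S = N) (h : ¬ p ^ 2 ∣ N) (hP : ∀ P : Sylow p S, ¬ IsCyclic (P : Subgroup S)) :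
    False := by
  subst hN
  exact hP default (isCyclic_of_sq h _)

theorem false_210 (h11 : 11 ≤ p) {N : ℕ} (hN : Nat.card S = N) (e : ℕ) (l : List ℕ) (h : N ∣ 210 ^ e * l.prod)
    (hl : ∀ x ∈ l, x.Prime) (hl2 : ∀ x ∈ l, ¬ x ^ 2 ∣ l.prod) (hP : ∀ P : Sylow p S, ¬ IsCyclic (P : Subgroup S)) : False :=
  false_of_card S hN (not_sq_dvd l h hl hl2 Fact.out (not_dvd_210 Fact.out h11)) hP

/-- **W2.** The sporadic groups. -/
theorem spor_cases (h11 : 11 ≤ p) (h : IsSporadicGroup S) (hP : ∀ P : Sylow p S, ¬ IsCyclic (P : Subgroup S)) :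
    (p = 11 ∧ Spor.IsoJ4 S) ∨ ((p = 11 ∨ p = 13) ∧ Spor.IsoM S) := by
  have hpp : p.Prime := Fact.out
  rcases h with h | h | h | h | h | h | h | h | h | h | h | h | h | h | h | h | h | h | h | h | h | h | h | h | h | h
  · exact (false_210 S h11 (NotCT.Orders.m11 h) 10 [11] (by decide +kernel) (by decide +kernel) (by decide +kernel) hP).elim
  · exact (false_210 S h11 (NotCT.Orders.m12 h) 10 [11] (by decide +kernel) (by decide +kernel) (by decide +kernel) hP).elim
  · exact (false_210 S h11 (NotCT.Orders.m22 h) 10 [11] (by decide +kernel) (by decide +kernel) (by decide +kernel) hP).elim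
  · exact (false_210 S h11 (NotCT.Orders.m23 h) 10 [11, 23] (by decide +kernel) (by decide +kernel) (by decide +kernel)
      hP).elim
  · exact (false_210 S h11 (NotCT.Orders.m24 h) 10 [11, 23] (by decide +kernel) (by decide +kernel) (by decide +kernel)
      hP).elim
  · exact (false_210 S h11 (NotCT.Orders.j1 h) 10 [11, 19] (by decide +kernel) (by decide +kernel) (by decide +kernel)
      hP).elim
  · exact (false_210 S h11 (NotCT.Orders.j2 h) 10 [] (by decide +kernel) (by decide +kernel) (by decide +kernel) hP).elim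
  · exact (false_210 S h11 (NotCT.Orders.j3 h) 10 [17, 19] (by decide +kernel) (by decide +kernel) (by decide +kernel)
      hP).elim
  · refine Or.inl ⟨?_, h⟩
    by_contra hne
    exact false_of_card S (NotCT.Orders.j4 h) (not_sq_dvd (K := 2310) (e := 21) [23, 29, 31, 37, 43] (by decide +kernel)
      (by decide +kernel) (by decide +kernel) hpp (not_dvd_2310 hpp h11 hne)) hP
  · exact (false_210 S h11 (NotCT.Orders.co1 h) 30 [11, 13, 23] (by decide +kernel) (by decide +kernel) (by decide +kernel)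
      hP).elim
  · exact (false_210 S h11 (NotCT.Orders.co2 h) 30 [11, 23] (by decide +kernel) (by decide +kernel) (by decide +kernel)
      hP).elim
  · exact (false_210 S h11 (NotCT.Orders.co3 h) 30 [11, 23] (by decide +kernel) (by decide +kernel) (by decide +kernel)
      hP).elim
  · exact (false_210 S h11 (NotCT.Orders.mcl h) 30 [11] (by decide +kernel) (by decide +kernel) (by decide +kernel)
      hP).elim
  · exact (false_210 S h11 (NotCT.Orders.hs h) 30 [11] (by decide +kernel) (by decide +kernel) (by decide +kernel)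
      hP).elim
  · exact (false_210 S h11 (NotCT.Orders.suz h) 30 [11, 13] (by decide +kernel) (by decide +kernel) (by decide +kernel)
      hP).elim
  · exact (false_210 S h11 (NotCT.Orders.he h) 30 [17] (by decide +kernel) (by decide +kernel) (by decide +kernel)
      hP).elim
  · exact (false_210 S h11 (NotCT.Orders.ru h) 30 [13, 29] (by decide +kernel) (by decide +kernel) (by decide +kernel)
      hP).elim
  · exact (false_210 S h11 (NotCT.Orders.on h) 30 [11, 19, 31] (by decide +kernel) (by decide +kernel) (by decide +kernel)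
      hP).elim
  · exact (false_210 S h11 (NotCT.Orders.ly h) 30 [11, 31, 37, 67] (by decide +kernel) (by decide +kernel)
      (by decide +kernel) hP).elim
  · exact (false_210 S h11 (NotCT.Orders.fi22 h) 30 [11, 13] (by decide +kernel) (by decide +kernel) (by decide +kernel)
      hP).elim
  · exact (false_210 S h11 (NotCT.Orders.fi23 h) 30 [11, 13, 17, 23] (by decide +kernel) (by decide +kernel)
      (by decide +kernel) hP).elim
  · exact (false_210 S h11 (NotCT.Orders.fi24 h) 30 [11, 13, 17, 23, 29] (by decide +kernel) (by decide +kernel)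
      (by decide +kernel) hP).elim
  · exact (false_210 S h11 (NotCT.Orders.hn h) 30 [11, 19] (by decide +kernel) (by decide +kernel)
      (by decide +kernel) hP).elim
  · exact (false_210 S h11 (NotCT.Orders.th h) 30 [13, 19, 31] (by decide +kernel) (by decide +kernel)
      (by decide +kernel) hP).elim
  · exact (false_210 S h11 (NotCT.Orders.b h) 50 [11, 13, 17, 19, 23, 31, 47] (by decide +kernel) (by decide +kernel)
      (by decide +kernel) hP).elim
  · refine Or.inr ⟨?_, h⟩
    by_contra hne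
    push Not at hne
    exact false_of_card S (NotCT.Orders.m h) (not_sq_dvd (K := 30030) (e := 46) [17, 19, 23, 29, 31, 41, 47, 59, 71]
      (by decide +kernel) (by decide +kernel) (by decide +kernel) hpp (not_dvd_30030 hpp h11 hne.1 hne.2)) hP

/-- The Tits group. -/
theorem cyc_tits (h11 : 11 ≤ p) (h : Lie.IsoTits S) (hP : ∀ P : Sylow p S, ¬ IsCyclic (P : Subgroup S)) : False :=
  false_210 S h11 (NotCT.Orders.tits h) 30 [13] (by decide +kernel) (by decide +kernel) (by decide +kernel) hP

end Cfsg.Agent.H248.KBW
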